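import Cfsg.Agent.H497.S8.SolvTwo
import Cfsg.Agent.H42.S8.M24D

/-!
# S4908, SOLV for the Mathieu group of degree 24 (helper133)
-/

set_option autoImplicit false

namespace Cfsg.Agent.H133.S8.MTwentyFour

open Cfsg Cfsg.Agent

universe u v

theorem chk : H497.S8.chk2 10395 [2, 3, 5, 7, 11, 23] H42.S8.M24.L (H42.S8.M24.E.map fun n => [n]) = true := by
  decide +kernel

theorem primes : ∀ p ∈ [2, 3, 5, 7, 11, 23], Nat.Prime p := by
  intro p hp
  simp only [List.mem_cons, List.not_mem_nil, or_false] at hp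
  rcases hp with rfl | rfl | rfl | rfl | rfl | rfl <;> norm_num

variable {X : Type v} [Group X] [Finite X]

/-- **SOLV for `M24`.** -/
theorem solv (hX : Cfsg.IsM24 X) {D : Set ℕ} (hD : H704.S8.Deg 1 X D) : H704.S8.Solv.{u} D := by
  rcases hD with rfl | ⟨h, -⟩
  · refine H497.S8.solv_of_chk2 10395 [2, 3, 5, 7, 11, 23] H42.S8.M24.L (H42.S8.M24.E.map fun n => [n]) primes
      (fun d hd => H42.S8.M24.degs hX hd) (fun l hl => ?_) chk
    obtain ⟨n, hn, rfl⟩ := List.mem_map.1 hl
    exact ⟨n, by simp, H42.S8.M24.mems hX hn⟩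
  · exact absurd h (by norm_num)

end Cfsg.Agent.H133.S8.MTwentyFour
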