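import Cfsg.Agent.H786.S8.Solv
import Cfsg.Agent.H417.DegMTwentyThree

/-!
# S4908, SOLV for the Mathieu group of degree 23 (helper133)
-/

set_option autoImplicit false

namespace Cfsg.Agent.H133.S8.MTwentyThree

open Cfsg Subgroup
open Cfsg.Agent.M23 Cfsg.Agent.M23.ElevenCommon
open Cfsg.Agent.M23Order.Base
open Cfsg.Agent.M23Order.Setup
open Cfsg.Agent.M23Order.ColumnEleven
open Cfsg.Agent.H417.DegMTwentyThree

universe u v

/-- a superset of the degrees with witnesses -/
def C : List (ℕ × List ℕ) := [(45, [231, 230]), (230, [231]), (1035, [231]), (896, [231]), (11, [1035, 896]),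
  (22, [231, 1035]), (231, [45]), (253, [231]), (264, [231]), (495, [231]), (506, [231]), (528, [231]), (759, [231]),
  (770, [231]), (990, [231]), (1012, [231]), (1265, [231]), (1518, [231]), (1540, [231]), (1760, [231]),
  (1771, [231]), (2024, [231]), (2277, [231]), (2530, [231]), (2772, [45]), (3036, [231])]

def W : List ℕ := [45, 230, 231, 896, 1035]

def P : List ℕ := [2, 3, 5, 7, 11, 23]

theorem chk : H245.AN.chkB (1 :: C.map (·.1)) P W C = true := by decide +kernel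

theorem arith : ∀ d ∈ A, d % 11 = 0 → d ∈ 1 :: C.map (·.1) := by decide

variable {X : Type v} [Group X] [Finite X]

theorem sup (hX : Cfsg.IsM23 X) {n : ℕ} (hn : n ∈ charDegrees X) : n ∈ 1 :: C.map (·.1) := by
  obtain ⟨hs, H, z, v, a, b, c, d, g, h, b₁, c₁, K⟩ := exists_elev' hX
  obtain ⟨χ, rfl⟩ := hn
  show dg χ ∈ _
  by_cases hXX : χ ∈ H.E.X
  · rcases (K.X χ).1 hXX with rfl | rfl
    · rw [K.dgb₁]; decide
    · rw [K.dgc₁]; decide
  by_cases hN : χ ∈ H.E.NE
  · by_cases h1 : χ = H.D.one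
    · rw [h1, dg_one H]; decide
    · have := (K.mem χ).2 ⟨hN, h1⟩
      simp only [List.mem_cons, List.not_mem_nil, or_false] at this
      rcases this with rfl | rfl | rfl | rfl
      · rw [K.dga]; decide
      · rw [K.dgb]; decide
      · rw [K.dgc]; decide
      · rw [K.dgd]; decide
  · exact arith _ (dg_mem_A H χ) (mod11_out H hN hXX)

theorem known (hX : Cfsg.IsM23 X) : ∀ w ∈ W, w ∈ charDegrees X := by
  obtain ⟨hs, H, z, v, a, b, c, d, g, h, b₁, c₁, K⟩ := exists_elev' hX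
  intro w hw
  simp only [W, List.mem_cons, List.not_mem_nil, or_false] at hw
  rcases hw with rfl | rfl | rfl | rfl | rfl
  · exact ⟨b, K.dgb⟩
  · exact ⟨a, K.dga⟩
  · exact ⟨g, K.dgg⟩
  · exact ⟨b₁, K.dgb₁⟩
  · exact ⟨d, K.dgd⟩

theorem primes (hX : Cfsg.IsM23 X) : ∀ p : ℕ, p.Prime → ∀ d ∈ charDegrees X, p ∣ d → p ∈ P := by
  intro p hp d hd hpd
  have h1 : p ∣ 10200960 := by
    rw [← hX.2]
    exact hpd.trans (H424.DegTools.dvd_card hd)
  have h2 : (10200960 : ℕ) = 2 ^ 7 * 3 ^ 2 * 5 * 7 * 11 * 23 := by norm_num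
  rw [h2] at h1
  simp only [hp.dvd_mul] at h1
  have hq : ∀ {q n : ℕ}, q.Prime → p ∣ q ^ n → p = q := fun hq h =>
    (Nat.prime_dvd_prime_iff_eq hp hq).1 (hp.dvd_of_dvd_pow h)
  have hq' : ∀ {q : ℕ}, q.Prime → p ∣ q → p = q := fun hq h => (Nat.prime_dvd_prime_iff_eq hp hq).1 h
  rcases h1 with ((((h1 | h1) | h1) | h1) | h1) | h1
  · rw [hq (by norm_num) h1]; decide
  · rw [hq (by norm_num) h1]; decide
  · rw [hq' (by norm_num) h1]; decide
  · rw [hq' (by norm_num) h1]; decide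
  · rw [hq' (by norm_num) h1]; decide
  · rw [hq' (by norm_num) h1]; decide

/-- **SOLV for `M23`.** -/
theorem solv (hX : Cfsg.IsM23 X) {D : Set ℕ} (hD : H704.S8.Deg 1 X D) : H704.S8.Solv.{u} D := by
  rcases hD with rfl | ⟨h, -⟩
  · exact H786.S8.solv_of_list chk (fun d hd => sup hX hd) (known hX) (primes hX)
      (known hX 45 (by decide)) (by norm_num)
  · exact absurd h (by norm_num)

end Cfsg.Agent.H133.S8.MTwentyThree
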